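import Mathlib
import Cfsg.Agent.Lib.Helper56.TCPerm
import Cfsg.Agent.Lib.Helper56.TCFast
set_option autoImplicit false
set_option maxRecDepth 1000000

namespace Cfsg.Agent.Lib.Helper56.ME7S

open Cfsg.Agent.Lib.Helper56.TC Cfsg.Agent.Lib.Helper56.TC.Tabs

noncomputable def o0A0 : List ℕ := [
0x17dfa79ebefcdcf7b6e96dced78da6ef3d9e5abbf497672cca578ca70935e66ba496a92c71579faabd497688e4e9c99372b6a46cc79889af0e5a0ab3ed6792aeb51c69b7926b20cd418c7af0f599cae354c5a74b4b148c290451f883a906e1cc8396c62b0a4c148620e4419862a084408601088008000]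

noncomputable def o0I0 : List ℕ := [
0x3ef7cefae78df6d74cf2c70beeb6caeaa689e69648e28607de75c6da6585d65544d24503ce34c2ca2481c61440c2040]

noncomputable def o1A0 : List ℕ := [
0xbe6c735b9565ad359248412d0c78902cc030f1eb8c8d69b270b94294a809a2c67211b7a44e8e6a2be092417485ca036032602500e0014001]

noncomputable def o1I0 : List ℕ := [
0x2082082081832079980482026070e82082048a45b8208208201c67d38208207502c88208021545e00cd56005a58f020]

noncomputable def o2A0 : List ℕ := [
0x4bb05cf26550727d5328d558793170891038604a01401a003]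

noncomputable def o2I0 : List ℕ := [
0xffffff4ffaff7fffffeffffdfcffffffff6ffffff89fffffb1fff35ff2f0fff]

noncomputable def o3A0 : List ℕ := [
0xca91393ae0d8108e004805]

noncomputable def o3I0 : List ℕ := [
0x888888288588888888888888888888888888888888788888648881388088888]

noncomputable def o4A0 : List ℕ := [
0x4347008]

noncomputable def o4I0 : List ℕ := [
0x3ffdfffffffffffffffffffffbfcffff]

noncomputable def o5A0 : List ℕ := [
0x380d]

noncomputable def o5I0 : List ℕ := [
0x2aa9aaaaaaaaaaaaaaaaaaaaa2aaaaaa]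

noncomputable def o0A : List (List ℕ) := [o0A0]

noncomputable def o0I : List (List ℕ) := [o0I0]

/-- generator words of the orbit certificate -/
noncomputable def o0W : List (List ℕ) := [[0],
    [1],
    [2],
    [3],
    [4],
    [5],
    [6]]

/-- an orbit certificate -/
noncomputable def o0R : Orb where
  m := 63
  ng := 7
  gw := fun j => nthL o0W j
  par := fldA o0A 1092 15 32767 6 63
  gen := fldA o0A 1092 15 32767 12 7
  O := fldA o0A 1092 15 32767 0 63
  Inv := fldA o0I 2730 6 63 0 63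

noncomputable def o1A : List (List ℕ) := [o1A0]

noncomputable def o1I : List (List ℕ) := [o1I0]

/-- generator words of the orbit certificate -/
noncomputable def o1W : List (List ℕ) := [[3, 2, 3],
    [6, 5, 4, 3, 4, 5, 6],
    [6, 4, 3, 2, 3, 4, 6],
    [6, 3, 2, 3, 6],
    [4, 1, 2, 3, 6, 5, 4, 3, 2, 1, 0, 1, 2, 3, 4, 5, 6, 3, 2, 1, 4],
    [5, 4, 3, 2, 3, 4, 5]]

/-- an orbit certificate -/
noncomputable def o1R : Orb where
  m := 32
  ng := 6
  gw := fun j => nthL o1W j
  par := fldA o1A 1170 14 16383 6 31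
  gen := fldA o1A 1170 14 16383 11 7
  O := fldA o1A 1170 14 16383 0 63
  Inv := fldA o1I 2730 6 63 0 63

noncomputable def o2A : List (List ℕ) := [o2A0]

noncomputable def o2I : List (List ℕ) := [o2I0]

/-- generator words of the orbit certificate -/
noncomputable def o2W : List (List ℕ) := [[5, 4, 3, 4, 5],
    [5],
    [3],
    [6, 3, 6],
    [6, 2, 3, 4, 1, 2, 3, 6, 5, 4, 3, 2, 1, 0, 1, 2, 3, 4, 5, 6, 3, 2, 1, 4, 3, 2, 6]]

/-- an orbit certificate -/
noncomputable def o2R : Orb where
  m := 15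
  ng := 5
  gw := fun j => nthL o2W j
  par := fldA o2A 1260 13 8191 6 15
  gen := fldA o2A 1260 13 8191 10 7
  O := fldA o2A 1260 13 8191 0 63
  Inv := fldA o2I 4096 4 15 0 15

noncomputable def o3A : List (List ℕ) := [o3A0]

noncomputable def o3I : List (List ℕ) := [o3I0]

/-- generator words of the orbit certificate -/
noncomputable def o3W : List (List ℕ) := [[6],
    [3, 6, 2, 3, 4, 1, 2, 3, 6, 5, 4, 3, 2, 1, 0, 1, 2, 3, 4, 5, 6, 3, 2, 1, 4, 3, 2, 6, 3],
    [4],
    [5, 4, 5]]

/-- an orbit certificate -/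
noncomputable def o3R : Orb where
  m := 8
  ng := 4
  gw := fun j => nthL o3W j
  par := fldA o3A 1489 11 2047 6 7
  gen := fldA o3A 1489 11 2047 9 3
  O := fldA o3A 1489 11 2047 0 63
  Inv := fldA o3I 4096 4 15 0 15

noncomputable def o4A : List (List ℕ) := [o4A0]

noncomputable def o4I : List (List ℕ) := [o4I0]

/-- generator words of the orbit certificate -/
noncomputable def o4W : List (List ℕ) := [[4, 3, 6, 2, 3, 4, 1, 2, 3, 6, 5, 4, 3, 2, 1, 0, 1, 2, 3, 4, 5, 6, 3, 2, 1, 4, 3, 2, 6, 3, 4],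
    [5]]

/-- an orbit certificate -/
noncomputable def o4R : Orb where
  m := 3
  ng := 2
  gw := fun j => nthL o4W j
  par := fldA o4A 1820 9 511 6 3
  gen := fldA o4A 1820 9 511 8 1
  O := fldA o4A 1820 9 511 0 63
  Inv := fldA o4I 8192 2 3 0 3

noncomputable def o5A : List (List ℕ) := [o5A0]

noncomputable def o5I : List (List ℕ) := [o5I0]

/-- generator words of the orbit certificate -/
noncomputable def o5W : List (List ℕ) := [[5, 4, 3, 6, 2, 3, 4, 1, 2, 3, 6, 5, 4, 3, 2, 1, 0, 1, 2, 3, 4, 5, 6, 3, 2, 1, 4, 3, 2, 6, 3, 4, 5]]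

/-- an orbit certificate -/
noncomputable def o5R : Orb where
  m := 2
  ng := 1
  gw := fun j => nthL o5W j
  par := fldA o5A 2048 8 255 6 1
  gen := fldA o5A 2048 8 255 7 1
  O := fldA o5A 2048 8 255 0 63
  Inv := fldA o5I 8192 2 3 0 3

end Cfsg.Agent.Lib.Helper56.ME7S
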