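import Mathlib
import Cfsg.Agent.Lib.Helper56.TCPerm
import Cfsg.Agent.Lib.Helper56.ME7T.Cert
import Cfsg.Agent.Lib.Helper56.ME7S.OrbD
set_option autoImplicit false
set_option maxRecDepth 1000000

namespace Cfsg.Agent.Lib.Helper56.ME7S

open Cfsg.Agent.Lib.Helper56.TC Cfsg.Agent.Lib.Helper56.TC.Tabs

theorem o0_c0 : allRange (fun x => forceN (chkOrb ME7T.T o0R 0) x) 0 63 = true := by decide +kernel
theorem o0_u63 : Upto (chkOrb ME7T.T o0R 0) 63 := upto_add (upto_zero (chkOrb ME7T.T o0R 0)) rfl o0_c0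
theorem o0_all : ∀ x < 63, (chkOrb ME7T.T o0R 0) x = true := o0_u63

theorem o0_hg : ∀ j < o0R.ng, (∀ a ∈ o0R.gw j, a < ME7T.T.K) ∧
    ∀ b ∈ ([] : List ℕ), b < ME7T.T.N ∧ ME7T.T.followT (o0R.gw j) b = b := by decide +kernel

theorem o1_c0 : allRange (fun x => forceN (chkOrb ME7T.T o1R 1) x) 0 32 = true := by decide +kernel
theorem o1_u32 : Upto (chkOrb ME7T.T o1R 1) 32 := upto_add (upto_zero (chkOrb ME7T.T o1R 1)) rfl o1_c0
theorem o1_all : ∀ x < 32, (chkOrb ME7T.T o1R 1) x = true := o1_u32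

theorem o1_hg : ∀ j < o1R.ng, (∀ a ∈ o1R.gw j, a < ME7T.T.K) ∧
    ∀ b ∈ ([0] : List ℕ), b < ME7T.T.N ∧ ME7T.T.followT (o1R.gw j) b = b := by decide +kernel

theorem o2_c0 : allRange (fun x => forceN (chkOrb ME7T.T o2R 3) x) 0 15 = true := by decide +kernel
theorem o2_u15 : Upto (chkOrb ME7T.T o2R 3) 15 := upto_add (upto_zero (chkOrb ME7T.T o2R 3)) rfl o2_c0
theorem o2_all : ∀ x < 15, (chkOrb ME7T.T o2R 3) x = true := o2_u15

theorem o2_hg : ∀ j < o2R.ng, (∀ a ∈ o2R.gw j, a < ME7T.T.K) ∧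
    ∀ b ∈ ([1, 0] : List ℕ), b < ME7T.T.N ∧ ME7T.T.followT (o2R.gw j) b = b := by decide +kernel

theorem o3_c0 : allRange (fun x => forceN (chkOrb ME7T.T o3R 5) x) 0 8 = true := by decide +kernel
theorem o3_u8 : Upto (chkOrb ME7T.T o3R 5) 8 := upto_add (upto_zero (chkOrb ME7T.T o3R 5)) rfl o3_c0
theorem o3_all : ∀ x < 8, (chkOrb ME7T.T o3R 5) x = true := o3_u8

theorem o3_hg : ∀ j < o3R.ng, (∀ a ∈ o3R.gw j, a < ME7T.T.K) ∧
    ∀ b ∈ ([3, 1, 0] : List ℕ), b < ME7T.T.N ∧ ME7T.T.followT (o3R.gw j) b = b := by decide +kernel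

theorem o4_c0 : allRange (fun x => forceN (chkOrb ME7T.T o4R 8) x) 0 3 = true := by decide +kernel
theorem o4_u3 : Upto (chkOrb ME7T.T o4R 8) 3 := upto_add (upto_zero (chkOrb ME7T.T o4R 8)) rfl o4_c0
theorem o4_all : ∀ x < 3, (chkOrb ME7T.T o4R 8) x = true := o4_u3

theorem o4_hg : ∀ j < o4R.ng, (∀ a ∈ o4R.gw j, a < ME7T.T.K) ∧
    ∀ b ∈ ([5, 3, 1, 0] : List ℕ), b < ME7T.T.N ∧ ME7T.T.followT (o4R.gw j) b = b := by decide +kernel

theorem o5_c0 : allRange (fun x => forceN (chkOrb ME7T.T o5R 13) x) 0 2 = true := by decide +kernel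
theorem o5_u2 : Upto (chkOrb ME7T.T o5R 13) 2 := upto_add (upto_zero (chkOrb ME7T.T o5R 13)) rfl o5_c0
theorem o5_all : ∀ x < 2, (chkOrb ME7T.T o5R 13) x = true := o5_u2

theorem o5_hg : ∀ j < o5R.ng, (∀ a ∈ o5R.gw j, a < ME7T.T.K) ∧
    ∀ b ∈ ([8, 5, 3, 1, 0] : List ℕ), b < ME7T.T.N ∧ ME7T.T.followT (o5R.gw j) b = b := by decide +kernel


end Cfsg.Agent.Lib.Helper56.ME7S
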